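import Cfsg.Agent.H134.TD.Sit
import Cfsg.Agent.H493.PGF4T
import Cfsg.Agent.H378.TwRowsF

/-!
# `²F₄(u)` does not have the spectrum of `³D₄(q)` (helper368, S3478)

* `exists_t` : torus elements of arbitrary odd order (version of `H493.F4Tor.exists_t`);
* `exists_fP`, `exists_fM` : `²F₄(2b²)` has elements of orders `4b⁴ ± 4b³ + 2b² ± 2b + 1`;
* `row_2F4`.
-/

set_option autoImplicit false
set_option linter.unusedSectionVars false

namespace Cfsg.Agent.H368.TDRow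

open CoxeterSystem Cfsg Cfsg.Lie Cfsg.Lie.ChevalleyDatum
open Cfsg.Agent.ChevalleyStructure Cfsg.Agent.ChevalleyStructure.Elts Cfsg.Agent.ChevalleyStructure.CoxeterGeom
  Cfsg.Agent.ChevalleyStructure.CoxeterGeomTypes Cfsg.Agent.ChevalleyStructure.NPerm
open Cfsg.Agent.Tits.Roots Cfsg.Agent.Tits.Core Cfsg.Agent.Nodes Cfsg.Agent.Nodes.Reps Cfsg.Agent.Nodes.BNOf
  Cfsg.Agent.Nodes.RGDChev
open Cfsg.Agent.KFacts.RgdField Cfsg.Agent.KFacts.RgdChevCoord Cfsg.Agent.BpExc.TorCent Cfsg.Agent.BpExc.TorChev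
open Cfsg.Agent.GpExc.Field Cfsg.Agent.BpExc.Tow Cfsg.Agent.BpExc.TowChev
  Cfsg.Agent.BpExc.LangFr Cfsg.Agent.BpExc Cfsg.Agent.H129.TorusChar Cfsg.Agent.H129.TorusUntw
open Cfsg.Agent.ChevalleyStructure.TwF4.Fix (isLong)
open Cfsg.Agent.H493 Cfsg.Agent.H493.F4End Cfsg.Agent.H493.F4Tor Cfsg.Agent.H493.PGF4T
open Cfsg.Agent.H129.WData (Mat hd ChainOK)

universe u

section Alg

variable {k : Type u} [Field k] [IsAlgClosed k] [CharP k 2]
variable {W : Type*} [Group W] (cs : CoxeterSystem CoxeterMatrix.F₄ W)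

/-- **Torus elements** of odd order `r`. -/
theorem exists_t (hk : LocFin k) {hN : NSys CoxeterMatrix.F₄ (TT chevF4 k) (nc hp k)} {w : W}
    {n : ↥(chevF4.group k)} (hn : Rp cs hN w n) {Th : Fin 4 → Fin 4 → ℤ}
    (hTh : ∀ j, rep cs hp.isCartan w (sr (rv j)) = Th j) (m : ℕ) {r : ℕ} (hr2 : Odd r)
    {L U : Fin 4 → ℤ} (hL : ∀ j, (r : ℤ) ∣ ∑ i, Th j i * L i - (eN j * 2 ^ m : ℕ) * L j)
    (hU : IsCoprime (r : ℤ) (∑ i, U i * L i)) :
    ∃ t ∈ TT chevF4 k, n * ste k m t * n⁻¹ = t ∧ orderOf t = r := by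
  have : Fact (Nat.Prime 2) := ⟨Nat.prime_two⟩
  have hr0 : r ≠ 0 := by
    rintro rfl
    exact absurd hr2 (by decide)
  have hrk : (r : k) ≠ 0 := by
    rw [Ne, CharP.cast_eq_zero_iff k 2]
    intro h
    exact (Nat.not_even_iff_odd.2 hr2) (even_iff_two_dvd.2 h)
  have : NeZero (r : k) := ⟨hrk⟩
  obtain ⟨u, hu⟩ := HasEnoughRootsOfUnity.exists_primitiveRoot k r
  have hu0 : u ≠ 0 := hu.ne_zero hr0
  let La : (Fin 4 → ℤ) → ℤ := fun x => ∑ i, x i * L i
  have hLa : ∀ x y, La (x + y) = La x + La y := fun x y => by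
    show ∑ i, (x + y) i * L i = _
    rw [← Finset.sum_add_distrib]
    exact Finset.sum_congr rfl fun i _ => by rw [Pi.add_apply, add_mul]
  have hMC : IsMC (fun x : Fin 4 → ℤ => u ^ La x) :=
    ⟨by show u ^ La 0 = 1; have : La 0 = 0 := Finset.sum_eq_zero fun i _ => by rw [Pi.zero_apply, zero_mul]
        rw [this, zpow_zero], fun x y => by show u ^ La (x + y) = _; rw [hLa, zpow_add₀ hu0]⟩
  obtain ⟨t, ht, hcX⟩ := exists_cX hp invC_F4 one_ne_zero hMC fun i => ⟨_, pow_one _⟩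
  have hone : ∀ z : ℤ, u ^ z = 1 ↔ (r : ℤ) ∣ z := fun z => hu.zpow_eq_one_iff_dvd z
  have hst := ste_TT (m := m) ht
  have hnst : n * ste k m t * n⁻¹ ∈ TT chevF4 k :=
    (Subgroup.mem_normalizer_iff.1 hn.mem_normalizer _).1 hst
  have hLsr : ∀ j, La (sr j) = L j := fun j => by
    show ∑ i, (sr j : Fin 4 → ℤ) i * L i = L j
    rw [Finset.sum_eq_single j]
    · rw [sr_self, one_mul]
    · intro i _ hi
      rw [sr_ne hi, zero_mul]
    · intro h; exact absurd (Finset.mem_univ j) h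
  refine ⟨t, ht, ?_, ?_⟩
  · -- the characters agree on `w (sr i)`
    have h1 : ∀ x, cX hp (n * ste k m t * n⁻¹) (rep cs hp.isCartan w x) = cX hp (ste k m t) x :=
      fun x => cX_rp hp cs hk 2 hn hst x
    have h2 : ∀ i, cX hp (ste k m t) (sr i) = cX hp t (rep cs hp.isCartan w (sr i)) := by
      intro i
      have h3 := cX_ste m ht (rv i)
      rw [rv_rv] at h3
      rw [h3, hcX, hcX, hLsr, ← zpow_natCast, ← zpow_mul]
      have h4 := hTh (rv i)
      rw [rv_rv] at h4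
      have h5 : La (rep cs hp.isCartan w (sr i)) = ∑ l, Th (rv i) l * L l := by rw [h4]
      obtain ⟨N, hN⟩ := hL (rv i)
      have h6 : La (rep cs hp.isCartan w (sr i)) = L (rv i) * ((eN (rv i) * 2 ^ m : ℕ) : ℤ) + (r : ℤ) * N := by
        rw [h5, ← hN]; ring
      rw [h6, zpow_add₀ hu0, (hone ((r : ℤ) * N)).2 (dvd_mul_right _ _), mul_one]
    have h7 : ∀ x, cX hp (ste k m t) x = cX hp t (rep cs hp.isCartan w x) := fun x =>
      (isMC_cX hp hst).ext ((isMC_cX hp ht).comp (rep cs hp.isCartan w).toAddMonoidHom) h2 x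
    refine cX_inj hp hnst ht fun i => ?_
    have h8 : sr i = rep cs hp.isCartan w (rep cs hp.isCartan w⁻¹ (sr i)) := by
      rw [← Module.End.mul_apply, ← map_mul, mul_inv_cancel, map_one, Module.End.one_apply]
    rw [h8, h1, h7]
  · refine Nat.dvd_antisymm ?_ ?_
    · refine orderOf_dvd_of_pow_eq_one (cX_inj hp (pow_mem ht r) (one_mem _) fun i => ?_)
      rw [cX_pow hp ht, cX_one, hcX, ← zpow_natCast, ← zpow_mul, hone]
      exact dvd_mul_left _ _
    · have h0 := pow_orderOf_eq_one t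
      have h1 := cX_pow hp ht (orderOf t) U
      rw [h0, cX_one, hcX, ← zpow_natCast, ← zpow_mul] at h1
      have h2 := (hone _).1 h1.symm
      exact Int.natCast_dvd_natCast.1 (hU.dvd_of_dvd_mul_left h2)

end Alg

section Fin

variable {K : Type u} [Field K] [Fintype K] {m : ℕ} (hK : Fintype.card K = 2 ^ (2 * m + 1))

include hK

/-- **Elements of `²F₄(q)`** from certificates. -/
theorem exists_order {C : List (Fin 4 × Mat 4)} (hC : ChainOK Am C) {Th : Mat 4} (hTh : ∀ j, hd C (rv j) = Th j)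
    {F : ℤ → ℤ} {L : ℤ → Fin 4 → ℤ} {U : Fin 4 → ℤ} {G : ℤ → Fin 4 → ℤ} {c : ℤ} {H : ℤ → ℤ}
    (h : Cert Th F L U G c H) {r : ℕ} (h1 : (r : ℤ) ∣ F (2 ^ m)) :
    ∃ x : ↥(twistedF4 K (2 ^ m)), orderOf x = r := by
  classical
  have : Fact (Nat.Prime 2) := ⟨Nat.prime_two⟩
  have hc2 : CharP K 2 := F4Fixed.charP_two hK
  obtain ⟨p, e, hpF, hpc, hpk, he, hpe, hk⟩ := exists_closure hK
  have hp2 : p = 2 := CharP.eq K hpc hc2
  subst hp2
  let k := AlgebraicClosure K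
  let f : K →+* k := algebraMap K k
  let cs := CoxeterMatrix.F₄.toCoxeterSystem
  have hN : NSys CoxeterMatrix.F₄ (TT chevF4 k) (nc hp k) := nsys_of_locFin hp cs hk 2
  obtain ⟨n, hn⟩ := exists_rp cs hN (cs.wordProd (C.map Prod.fst))
  obtain ⟨z, hz⟩ := F4Lang.lang_ste m n
  have hw : ∀ j, rep cs hp.isCartan (cs.wordProd (C.map Prod.fst)) (sr (rv j)) = Th j := fun j => by
    rw [H129.WData.chain_rep hp cs hA hC, hTh]
  have hodd : Odd r := by
    rw [← Nat.not_even_iff_odd]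
    intro he
    obtain ⟨z, hz⟩ := h.odd (2 ^ m)
    have h2 : (2 : ℤ) ∣ F (2 ^ m) := (Int.natCast_dvd_natCast.2 (even_iff_two_dvd.1 he)).trans h1
    omega
  have hcop : IsCoprime (r : ℤ) (∑ i, U i * L (2 ^ m) i) := by
    obtain ⟨d, hd⟩ := h1
    rw [h.un, hd]
    rcases h.one with h0 | h0
    · exact ⟨-(d * H (2 ^ m)), 1, by rw [h0]; ring⟩
    · exact ⟨d * H (2 ^ m), -1, by rw [h0]; ring⟩
  obtain ⟨t, ht, h3, h4⟩ := exists_t cs hk hn hw m hodd (h.hL h1) hcop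
  have hfix : ∀ y : ↥(chevF4.group k), n * ste k m y * n⁻¹ = y → ste k m (z * y * z⁻¹) = z * y * z⁻¹ := by
    intro y h1
    have h2 : ste k m z = z * n := by rw [hz]; group
    rw [map_mul, map_mul, map_inv, h2]
    calc z * n * ste k m y * (z * n)⁻¹ = z * (n * ste k m y * n⁻¹) * z⁻¹ := by group
      _ = _ := by rw [h1]
  obtain ⟨g, hg, hgm⟩ := exists_fin f hK (hfix t h3)
  have ho : ∀ y : ↥(chevF4.group k), orderOf (z * y * z⁻¹) = orderOf y := fun y =>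
    orderOf_injective (MulAut.conj z).toMonoidHom (MulAut.conj z).injective y
  refine ⟨⟨g, hgm⟩, ?_⟩
  rw [Subgroup.orderOf_mk, Subgroup.orderOf_coe, ← orderOf_injective (emb hD f) (emb_injective hD f) g, hg, ho, h4]

/-- elements of order `r ∣ u² + √(2u³) + u + √(2u) + 1` -/
theorem exists_fP {r : ℕ} (h1 : (r : ℤ) ∣ fP (2 ^ m)) : ∃ x : ↥(twistedF4 K (2 ^ m)), orderOf x = r :=
  exists_order hK chainEp_ok hThEp certEp_fP h1

/-- elements of order `r ∣ u² - √(2u³) + u - √(2u) + 1` -/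
theorem exists_fM {r : ℕ} (h1 : (r : ℤ) ∣ fM (2 ^ m)) : ∃ x : ↥(twistedF4 K (2 ^ m)), orderOf x = r :=
  exists_order hK chainEm_ok hThEm certEm_fM h1

end Fin

end Cfsg.Agent.H368.TDRow
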